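import Cfsg.Agent.S5560
import Cfsg.Agent.Core.PCore
import Cfsg.Agent.Invol.Pair
import Mathlib

/-!
# Pairs of involutions, classes under a subgroup, and counting lemmas

`mid x y` is the involution of the dihedral group on `x, y` exchanging them when `x * y` has odd
order.
-/

set_option autoImplicit false

namespace Cfsg.Agent.RankThreeInvol

open Subgroup

variable {G : Type*} [Group G]

/-- The involution exchanging `x` and `y` when `x * y` has odd order. -/
noncomputable def mid (x y : G) : G := x * (x * y) ^ ((orderOf (x * y) + 1) / 2)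

section Pair

variable {x y : G}

theorem conj_eq (hx : orderOf x = 2) (a : G) : x * a * x⁻¹ = x * a * x := by
  rw [Invol.inv_eq_self hx]

theorem conj_prod (hx : orderOf x = 2) (hy : orderOf y = 2) :
    x * (x * y) * x = (x * y)⁻¹ := by
  rw [mul_inv_rev, Invol.inv_eq_self hx, Invol.inv_eq_self hy,
    Invol.mul_mul_cancel_self hx y]

theorem conj_prod_pow (hx : orderOf x = 2) (hy : orderOf y = 2) (i : ℕ) :
    x * (x * y) ^ i * x = ((x * y) ^ i)⁻¹ := by
  calc x * (x * y) ^ i * x = x * (x * y) ^ i * x⁻¹ := (conj_eq hx _).symm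
    _ = (x * (x * y) * x⁻¹) ^ i := (conj_pow).symm
    _ = _ := by rw [conj_eq hx, conj_prod hx hy, inv_pow]

theorem inv_prod (hx : orderOf x = 2) (hy : orderOf y = 2) : (x * y)⁻¹ = y * x := by
  rw [mul_inv_rev, Invol.inv_eq_self hx, Invol.inv_eq_self hy]

theorem orderOf_prod_comm (hx : orderOf x = 2) (hy : orderOf y = 2) :
    orderOf (y * x) = orderOf (x * y) := by
  rw [← inv_prod hx hy, orderOf_inv]

theorem refl_two (hx : orderOf x = 2) (hy : orderOf y = 2) (i : ℕ) :
    x * (x * y) ^ (i + 2) = y * (x * (x * (x * y) ^ i) * x) * y := by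
  have h1 : x * (x * (x * y) ^ i) * x = (x * y) ^ i * x := by
    rw [← mul_assoc x x, Invol.mul_self_eq_one hx, one_mul]
  rw [h1, pow_succ', pow_succ, ← mul_assoc x, Invol.mul_mul_cancel_self hx]
  simp only [mul_assoc]

theorem refl_mem {D : Set G} (hD : ∀ d ∈ D, orderOf d = 2)
    (hcl : ∀ a ∈ D, ∀ b ∈ D, a * b * a ∈ D) (hx : x ∈ D) (hy : y ∈ D) (i : ℕ) :
    x * (x * y) ^ i ∈ D := by
  induction i using Nat.twoStepInduction with
  | zero => rwa [pow_zero, mul_one]
  | one => rwa [pow_one, Invol.mul_mul_cancel_self (hD x hx)]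
  | more i ih _ =>
    rw [refl_two (hD x hx) (hD y hy)]
    exact hcl y hy _ (hcl x hx _ ih)

theorem mid_mem {D : Set G} (hD : ∀ d ∈ D, orderOf d = 2)
    (hcl : ∀ a ∈ D, ∀ b ∈ D, a * b * a ∈ D) (hx : x ∈ D) (hy : y ∈ D) : mid x y ∈ D :=
  refl_mem hD hcl hx hy _

theorem mid_mem_subgroup {H : Subgroup G} (hx : x ∈ H) (hy : y ∈ H) : mid x y ∈ H :=
  H.mul_mem hx (H.pow_mem (H.mul_mem hx hy) _)

theorem commute_mid {g : G} (hx : Commute g x) (hy : Commute g y) : Commute g (mid x y) :=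
  hx.mul_right ((hx.mul_right hy).pow_right _)

theorem mid_mul_self (hx : orderOf x = 2) (hy : orderOf y = 2) : mid x y * mid x y = 1 := by
  unfold mid
  rw [← mul_assoc, conj_prod_pow hx hy, inv_mul_cancel]

theorem mid_inv (hx : orderOf x = 2) (hy : orderOf y = 2) : (mid x y)⁻¹ = mid x y :=
  inv_eq_of_mul_eq_one_right (mid_mul_self hx hy)

/-- `mid x y` carries `x` to `y`. -/
theorem mid_conj (hx : orderOf x = 2) (hy : orderOf y = 2) (h : Odd (orderOf (x * y))) :
    mid x y * x * mid x y = y := by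
  obtain ⟨m, hm⟩ := h
  have h2 : (orderOf (x * y) + 1) / 2 = m + 1 := by omega
  have hz : (x * y) ^ (2 * m + 1) = 1 := hm ▸ pow_orderOf_eq_one (x * y)
  unfold mid
  rw [h2]
  calc x * (x * y) ^ (m + 1) * x * (x * (x * y) ^ (m + 1))
      = x * ((x * y) ^ (m + 1) * (x * x) * (x * y) ^ (m + 1)) := by simp only [mul_assoc]
    _ = x * ((x * y) ^ (2 * m + 1) * (x * y)) := by
        rw [Invol.mul_self_eq_one hx, mul_one, ← pow_add, ← pow_succ]
        congr 2
        omega
    _ = y := by rw [hz, one_mul, Invol.mul_mul_cancel_self hx]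

theorem mid_conj' (hx : orderOf x = 2) (hy : orderOf y = 2) (h : Odd (orderOf (x * y))) :
    mid x y * x * (mid x y)⁻¹ = y := by
  rw [mid_inv hx hy, mid_conj hx hy h]

theorem mid_comm (hx : orderOf x = 2) (hy : orderOf y = 2) (h : Odd (orderOf (x * y))) :
    mid y x = mid x y := by
  obtain ⟨m, hm⟩ := h
  have h2 : (orderOf (x * y) + 1) / 2 = m + 1 := by omega
  unfold mid
  rw [orderOf_prod_comm hx hy, h2, ← inv_prod hx hy, inv_pow, eq_comm,
    eq_mul_inv_iff_mul_eq, mul_assoc, ← pow_add,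
    show m + 1 + (m + 1) = 2 * m + 1 + 1 by ring, pow_succ, ← hm, pow_orderOf_eq_one, one_mul,
    Invol.mul_mul_cancel_self hx]

/-- An element exchanging `x` and `y` commutes with `mid x y`. -/
theorem commute_mid_of_swap {g : G} (hx : orderOf x = 2) (hy : orderOf y = 2)
    (h : Odd (orderOf (x * y))) (h1 : g * x * g⁻¹ = y) (h2 : g * y * g⁻¹ = x) :
    Commute g (mid x y) := by
  have h3 : g * mid x y * g⁻¹ = mid y x := by
    have h4 : g * mid x y * g⁻¹ =
        g * x * g⁻¹ * (g * x * g⁻¹ * (g * y * g⁻¹)) ^ ((orderOf (x * y) + 1) / 2) := by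
      unfold mid
      rw [conj_mul, conj_pow, conj_mul]
    rw [h4, h1, h2, mid, orderOf_prod_comm hx hy]
  rw [mid_comm hx hy h] at h3
  exact mul_inv_eq_iff_eq_mul.1 h3

theorem swap_commute_mid {d : G} (hd : orderOf d = 2) (hx : orderOf x = 2) (hy : orderOf y = 2)
    (h : Odd (orderOf (x * y))) (h1 : d * x * d = y) : Commute d (mid x y) := by
  refine commute_mid_of_swap hx hy h ((conj_eq hd x).trans h1) ?_
  rw [conj_eq hd, ← h1, ← mul_assoc d, ← mul_assoc d, Invol.mul_self_eq_one hd, one_mul, mul_assoc,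
    Invol.mul_self_eq_one hd, mul_one]

theorem orderOf_mul_eq_two (hx : orderOf x = 2) (hy : orderOf y = 2) (h : Commute x y)
    (hne : x ≠ y) : orderOf (x * y) = 2 := by
  refine Invol.orderOf_eq_two_iff.2 ⟨fun he => hne ?_, ?_⟩
  · rw [mul_eq_one_iff_eq_inv.1 he, Invol.inv_eq_self hy]
  · rw [mul_assoc, ← mul_assoc y, ← h.eq, mul_assoc x y, Invol.mul_self_eq_one hy, mul_one,
      Invol.mul_self_eq_one hx]

theorem commute_of_orderOf_dvd_two (hx : orderOf x = 2) (hy : orderOf y = 2)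
    (h : orderOf (x * y) ∣ 2) : Commute x y := by
  have h1 := orderOf_dvd_iff_pow_eq_one.1 h
  rw [pow_two] at h1
  have := inv_eq_of_mul_eq_one_right h1
  rw [inv_prod hx hy] at this
  exact this.symm

theorem eq_of_mul_eq_one (hy : orderOf y = 2) (h : x * y = 1) : x = y :=
  (mul_eq_one_iff_eq_inv.1 h).trans (Invol.inv_eq_self hy)

theorem eq_of_commute_of_odd (hx : orderOf x = 2) (hy : orderOf y = 2) (hc : Commute x y)
    (h : Odd (orderOf (x * y))) : x = y := by
  by_contra hne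
  rw [orderOf_mul_eq_two hx hy hc hne] at h
  exact absurd h (by decide)

theorem orderOf_mul_conj :
    orderOf (x * (y * x * y)) = orderOf ((x * y) ^ 2) := by
  rw [pow_two]
  simp only [mul_assoc]

theorem eq_one_of_inverted {g u : G} (hc : Commute g u) (hi : g * u * g⁻¹ = u⁻¹)
    (h : Odd (orderOf u)) : u = 1 := by
  rw [hc.eq, mul_inv_cancel_right, eq_inv_iff_mul_eq_one, ← pow_two] at hi
  obtain ⟨m, hm⟩ := h
  have := pow_orderOf_eq_one u
  rwa [hm, pow_succ, pow_mul, hi, one_pow, one_mul] at this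

end Pair

section Classes

/-- The orbit of `x` under conjugation by the elements of `H`. -/
def cls (H : Subgroup G) (x : G) : Set G := {y | ∃ g ∈ H, g * x * g⁻¹ = y}

theorem self_mem_cls (H : Subgroup G) (x : G) : x ∈ cls H x :=
  ⟨1, H.one_mem, by rw [one_mul, inv_one, mul_one]⟩

theorem ncard_cls (H : Subgroup G) (x : G) :
    (cls H x).ncard = (H ⊓ centralizer ({x} : Set G)).relIndex H := by
  let _ : MulAction H G := MulAction.compHom G (MulAut.conj.comp H.subtype)
  have ho : cls H x = MulAction.orbit H x := by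
    ext y
    constructor
    · rintro ⟨g, hg, rfl⟩
      exact ⟨⟨g, hg⟩, rfl⟩
    · rintro ⟨g, rfl⟩
      exact ⟨g, g.2, rfl⟩
  have hs : MulAction.stabilizer H x = (H ⊓ centralizer ({x} : Set G)).subgroupOf H := by
    ext g
    rw [MulAction.mem_stabilizer_iff, mem_subgroupOf, mem_inf, mem_centralizer_singleton_iff]
    show (g : G) * x * (g : G)⁻¹ = x ↔ _
    rw [mul_inv_eq_iff_eq_mul]
    exact ⟨fun h => ⟨g.2, h⟩, fun h => h.2⟩
  rw [ho, ← MulAction.index_stabilizer, hs]
  rfl

theorem ncard_cls_mul (H : Subgroup G) (x : G) :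
    Nat.card (H ⊓ centralizer ({x} : Set G) : Subgroup G) * (cls H x).ncard = Nat.card H := by
  rw [ncard_cls, ← relIndex_bot_left (H ⊓ centralizer ({x} : Set G)),
    relIndex_mul_relIndex _ _ _ bot_le inf_le_left, relIndex_bot_left]

theorem ncard_cls_dvd (H : Subgroup G) (x : G) : (cls H x).ncard ∣ Nat.card H :=
  ⟨_, (by rw [mul_comm]; exact (ncard_cls_mul H x).symm)⟩

theorem exists_pow_ncard_cls [Finite G] {p : ℕ} [Fact p.Prime] {H : Subgroup G}
    (hH : IsPGroup p H) (x : G) : ∃ k, (cls H x).ncard = p ^ k := by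
  obtain ⟨n, hn⟩ := IsPGroup.iff_card.1 hH
  obtain ⟨k, -, hk⟩ := (Nat.dvd_prime_pow Fact.out).1 (hn ▸ ncard_cls_dvd H x)
  exact ⟨k, hk⟩

/-- A map of `p`-power order on a finite set fixes as many points as the set has, modulo `p`. -/
theorem ncard_fixed_modEq {α : Type*} {p n : ℕ} [Fact p.Prime] {s : Set α} (hs : s.Finite)
    (f : α → α) (hmaps : ∀ a ∈ s, f a ∈ s) (hf : ∀ a ∈ s, f^[p ^ n] a = a) :
    s.ncard ≡ {a ∈ s | f a = a}.ncard [MOD p] := by
  classical
  have := hs.fintype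
  have hM : Set.MapsTo f s s := hmaps
  let g : Function.End s := hM.restrict f s s
  have hg : g ^ p ^ n = 1 := by
    refine funext fun a => Subtype.ext ?_
    have h1 : ∀ k : ℕ, ((g ^ k) a : α) = f^[k] a := by
      intro k
      induction k with
      | zero => rfl
      | succ k ih =>
        rw [pow_succ', Function.iterate_succ_apply', ← ih]
        rfl
    exact (h1 _).trans (hf a a.2)
  have := Equiv.Perm.card_fixedPoints_modEq hg
  rw [← Nat.card_eq_fintype_card, ← Nat.card_eq_fintype_card, Nat.card_coe_set_eq] at this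
  convert this using 1
  rw [← Nat.card_coe_set_eq]
  exact Nat.card_congr
    { toFun := fun a => ⟨⟨a.1, a.2.1⟩, Subtype.ext a.2.2⟩
      invFun := fun b => ⟨b.1.1, b.1.2, congrArg Subtype.val b.2⟩
      left_inv := fun a => rfl
      right_inv := fun b => rfl }

theorem conj_iterate (g a : G) (k : ℕ) :
    (fun b => g * b * g⁻¹)^[k] a = g ^ k * a * (g ^ k)⁻¹ := by
  induction k with
  | zero => simp
  | succ k ih =>
    rw [Function.iterate_succ_apply', ih, pow_succ', mul_inv_rev]
    simp only [mul_assoc]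

/-- An involution fixing no member of a finite invariant set: the set has even size. -/
theorem even_ncard_of_free {α : Type*} {s : Set α} (hs : s.Finite) (f : α → α)
    (hmaps : ∀ a ∈ s, f a ∈ s) (hf : ∀ a ∈ s, f (f a) = a) (hfree : ∀ a ∈ s, f a ≠ a) :
    Even s.ncard := by
  have : Fact (Nat.Prime 2) := ⟨Nat.prime_two⟩
  have h := ncard_fixed_modEq (p := 2) (n := 1) hs f hmaps (fun a ha => hf a ha)
  have he : {a ∈ s | f a = a} = (∅ : Set α) :=
    Set.eq_empty_of_forall_notMem fun a ha => hfree a ha.1 ha.2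
  rw [he, Set.ncard_empty] at h
  exact Nat.even_iff.2 h

theorem conj_mem_of_closure {S E : Set G} (hcl : ∀ s ∈ S, ∀ e ∈ E, s * e * s⁻¹ ∈ E)
    (hinv : ∀ s ∈ S, ∀ e ∈ E, s⁻¹ * e * s ∈ E) {g : G} (hg : g ∈ closure S) {e : G} (he : e ∈ E) :
    g * e * g⁻¹ ∈ E := by
  suffices h : (∀ e ∈ E, g * e * g⁻¹ ∈ E) ∧ ∀ e ∈ E, g⁻¹ * e * g ∈ E from h.1 e he
  induction hg using closure_induction with
  | mem a ha => exact ⟨hcl a ha, hinv a ha⟩
  | one => exact ⟨fun a ha => by simpa using ha, fun a ha => by simpa using ha⟩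
  | mul a b _ _ hia hib =>
    exact ⟨fun c hc => by simpa [mul_assoc] using hia.1 _ (hib.1 c hc),
      fun c hc => by simpa [mul_assoc] using hib.2 _ (hia.2 c hc)⟩
  | inv a _ hia => exact ⟨fun c hc => by simpa using hia.2 c hc,
      fun c hc => by simpa using hia.1 c hc⟩

/-- Pairwise products of `p`-power order in a self-normalising set of involutions: its size is a
power of `p`. -/
theorem exists_pow_ncard_of_pairs [Finite G] {p : ℕ} (hp : p.Prime) (hp2 : p ≠ 2) {E : Set G}
    (hE : ∀ d ∈ E, orderOf d = 2) (hcl : ∀ a ∈ E, ∀ b ∈ E, a * b * a ∈ E)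
    (hpair : ∀ a ∈ E, ∀ b ∈ E, ∃ k, orderOf (a * b) = p ^ k) (hne : E.Nonempty) :
    ∃ k, E.ncard = p ^ k := by
  have := Fact.mk hp
  obtain ⟨e, he⟩ := hne
  set L := closure E with hL
  have hcl1 : ∀ s ∈ E, ∀ a ∈ E, s * a * s⁻¹ ∈ E := fun s hs a ha => by
    rw [conj_eq (hE s hs)]; exact hcl s hs a ha
  have hcl2 : ∀ s ∈ E, ∀ a ∈ E, s⁻¹ * a * s ∈ E := fun s hs a ha => by
    rw [Invol.inv_eq_self (hE s hs)]; exact hcl s hs a ha
  have hodd : ∀ a ∈ E, ∀ b ∈ E, Odd (orderOf (a * b)) := fun a ha b hb => by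
    obtain ⟨k, hk⟩ := hpair a ha b hb
    rw [hk]; exact (hp.odd_of_ne_two hp2).pow
  let e' : L := ⟨e, subset_closure he⟩
  have hE' : ∀ a ∈ conjugatesOf e', (a : G) ∈ E := by
    intro a ha
    obtain ⟨g, rfl⟩ := isConj_iff.1 ha
    exact conj_mem_of_closure hcl1 hcl2 g.2 he
  have hpc := S5560.result hp hp2 e' ((orderOf_submonoid _).symm.trans (hE e he))
    (fun a ha b hb => by
      obtain ⟨k, hk⟩ := hpair _ (hE' a ha) _ (hE' b hb)
      exact ⟨k, (orderOf_submonoid (a * b)).symm.trans hk⟩)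
  set O := (pCore p L).map L.subtype with hO
  have hcls : E = cls O e := by
    ext d
    constructor
    · intro hd
      have hdm : IsConj e' (⟨d, subset_closure hd⟩ : L) := isConj_iff.2
        ⟨⟨mid e d, mid_mem_subgroup e'.2 (subset_closure hd)⟩,
          Subtype.ext (mid_conj' (hE e he) (hE d hd) (hodd e he d hd))⟩
      have hu : e * d ∈ O := ⟨_, hpc e' mem_conjugatesOf_self _ hdm, rfl⟩
      set m := (e * d) ^ ((orderOf (e * d) + 1) / 2) with hm
      have hmid : e * m * e * (e * m)⁻¹ = d :=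
        mid_conj' (hE e he) (hE d hd) (hodd e he d hd)
      refine ⟨m⁻¹, O.inv_mem (O.pow_mem hu _), ?_⟩
      have h1 : e * m * e = m⁻¹ := conj_prod_pow (hE e he) (hE d hd) _
      have h2 : e * m = m⁻¹ * e := by
        rw [← h1, mul_assoc _ e e, Invol.mul_self_eq_one (hE e he), mul_one]
      rw [← hmid, inv_inv, mul_inv_rev, Invol.inv_eq_self (hE e he), h1, mul_assoc m⁻¹ e m, h2]
    · rintro ⟨g, hg, rfl⟩
      exact conj_mem_of_closure hcl1 hcl2 (map_subtype_le _ hg) he
  rw [hcls]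
  exact exists_pow_ncard_cls (Core.pCore_isPGroup.map _) e

end Classes

end Cfsg.Agent.RankThreeInvol
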