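import Cfsg.Agent.RankThreeInvol.CommP.Main
import Cfsg.Agent.RankThreeInvol.TwoType.Main
import Cfsg.Agent.Invol.BaerSuzuki
import Cfsg.Agent.Invol.ZStar
import Cfsg.Prelude.Def_SporadicB

/-!
# A rank three class of involutions consists of 3-transpositions
-/

set_option autoImplicit false

namespace Cfsg.Agent.RankThreeInvol

open Subgroup

variable {G : Type*} [Group G] [Finite G]

/-- The orbit of `w` under the centraliser of `x`. -/
def orbC (x w : G) : Set G := {u : G | ∃ g : G, Commute g x ∧ g * w * g⁻¹ = u}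

omit [Finite G] in
theorem orderOf_of_mem_orbC {x w u : G} (hu : u ∈ orbC x w) :
    orderOf (x * u) = orderOf (x * w) := by
  obtain ⟨g, hg, rfl⟩ := hu
  conv_lhs => rw [show x = g * x * g⁻¹ by rw [hg.eq, mul_inv_cancel_right]]
  rw [orderOf_mul_img]

theorem false_of_solvable_closure (hsol : ∀ N : Subgroup G, N.Normal → Group.IsSolvable ↥N → N = ⊥)
    {D : Set G} (hgen : closure D = ⊤) {d : G} (hd : orderOf d = 2)
    (h : Group.IsSolvable ↥(closure D)) : False := by
  rw [hgen] at h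
  have h1 := hsol ⊤ inferInstance h
  have h2 : d ∈ (⊥ : Subgroup G) := h1 ▸ mem_top d
  exact Invol.ne_one hd (mem_bot.1 h2)

theorem false_of_comm (hsol : ∀ N : Subgroup G, N.Normal → Group.IsSolvable ↥N → N = ⊥)
    {D : Set G} (hgen : closure D = ⊤) {d : G} (hd : orderOf d = 2)
    (hc : ∀ a ∈ D, ∀ b ∈ D, Commute a b) : False := by
  have := isMulCommutative_closure (k := D) fun a ha b hb => (hc a ha b hb).eq
  exact false_of_solvable_closure hsol hgen hd
    (Group.isSolvable_of_comm fun a b => Subtype.ext (setLike_mul_comm (s := closure D) a.2 b.2))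

omit [Finite G] in
/-- Every divisor of `orderOf (x * y)` is realised by a member. -/
theorem exists_of_dvd {D : Set G} (hinv : ∀ d ∈ D, orderOf d = 2)
    (hcl : ∀ a ∈ D, ∀ b ∈ D, a * b * a ∈ D) {x y : G} (hx : x ∈ D) (hy : y ∈ D)
    (hpos : 0 < orderOf (x * y)) {e : ℕ} (he : e ∣ orderOf (x * y)) :
    ∃ z ∈ D, orderOf (x * z) = e := by
  obtain ⟨c, hc⟩ := he
  have hc0 : c ≠ 0 := by rintro rfl; omega
  refine ⟨_, refl_mem hinv hcl hx hy c, ?_⟩
  rw [Invol.mul_mul_cancel_self (hinv x hx), orderOf_pow_of_dvd hc0 ⟨e, by rw [hc, mul_comm]⟩, hc,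
    Nat.mul_div_cancel _ (Nat.pos_of_ne_zero hc0)]

/-- The classification of rank three classes of involutions. -/
theorem three_transpositions (hsol : ∀ N : Subgroup G, N.Normal → Group.IsSolvable ↥N → N = ⊥)
    {D : Set G} (hinv : ∀ d ∈ D, orderOf d = 2) (hconj : ∃ d ∈ D, D = conjugatesOf d)
    (hgen : closure D = ⊤)
    (hrank : ∀ x ∈ D, ∃ y ∈ D, ∃ z ∈ D, orbC x y ≠ orbC x x ∧ orbC x z ≠ orbC x x ∧
      orbC x y ≠ orbC x z ∧ D = orbC x x ∪ orbC x y ∪ orbC x z) :
    ∀ d ∈ D, ∀ e ∈ D, (d * e) ^ 2 = 1 ∨ (d * e) ^ 3 = 1 := by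
  obtain ⟨d₀, hd₀, hD⟩ := hconj
  have hcm : ∀ {d : G}, d ∈ D → ∀ g : G, g * d * g⁻¹ ∈ D := by
    intro d hd g
    rw [hD] at hd ⊢
    exact IsConj.trans hd (isConj_iff.2 ⟨g, rfl⟩)
  have htr : ∀ {d e : G}, d ∈ D → e ∈ D → ∃ g : G, g * d * g⁻¹ = e := by
    intro d e hd he
    rw [hD] at hd he
    exact isConj_iff.1 ((IsConj.symm hd).trans he)
  have hcl : ∀ a ∈ D, ∀ b ∈ D, a * b * a ∈ D := fun a ha b hb => by
    rw [← conj_eq (hinv a ha)]; exact hcm hb a
  have hord1 : ∀ {a b : G}, a ∈ D → b ∈ D → a ≠ b → orderOf (a * b) ≠ 1 := fun {a b} _ hb hne h1 =>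
    hne (eq_of_mul_eq_one (hinv b hb) (orderOf_eq_one_iff.1 h1))
  -- the orders occurring at a point
  have horbit : ∀ x ∈ D, ∃ y ∈ D, ∃ z ∈ D, x ≠ y ∧ x ≠ z ∧
      ∀ w ∈ D, x ≠ w → w ∈ orbC x y ∨ w ∈ orbC x z := by
    intro x hx
    obtain ⟨y, hy, z, hz, h1, h2, -, hU⟩ := hrank x hx
    refine ⟨y, hy, z, hz, fun he => h1 (he ▸ rfl), fun he => h2 (he ▸ rfl), fun w hw hne => ?_⟩
    rcases (hU ▸ hw : w ∈ orbC x x ∪ orbC x y ∪ orbC x z) with (h3 | h3) | h3
    · obtain ⟨g, hg, he⟩ := h3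
      rw [hg.eq, mul_inv_cancel_right] at he
      exact absurd he hne
    · exact Or.inl h3
    · exact Or.inr h3
  have hself : ∀ x w : G, w ∈ orbC x w := fun x w =>
    ⟨1, Commute.one_left x, by rw [one_mul, inv_one, mul_one]⟩
  obtain ⟨n₁, n₂, hn, hN, htrans⟩ : ∃ n₁ n₂ : ℕ,
      (∀ a ∈ D, ∀ b ∈ D, a ≠ b → orderOf (a * b) = n₁ ∨ orderOf (a * b) = n₂) ∧
      (∀ a ∈ D, (∃ b ∈ D, a ≠ b ∧ orderOf (a * b) = n₁) ∧ ∃ b ∈ D, a ≠ b ∧ orderOf (a * b) = n₂) ∧
      (n₁ ≠ n₂ → ∀ a ∈ D, ∀ b ∈ D, ∀ b' ∈ D, a ≠ b → a ≠ b' → orderOf (a * b) = orderOf (a * b') →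
        ∃ g, Commute g a ∧ g * b * g⁻¹ = b') := by
    obtain ⟨y, hy, z, hz, hxy, hxz, hall⟩ := horbit d₀ hd₀
    refine ⟨orderOf (d₀ * y), orderOf (d₀ * z), ?_, ?_, ?_⟩
    · intro a ha b hb hne
      obtain ⟨g, hg⟩ := htr ha hd₀
      have hne' : d₀ ≠ g * b * g⁻¹ := fun he => hne (mul_left_cancel (mul_right_cancel (hg.trans he)))
      rw [← orderOf_mul_img g a b, hg]
      rcases hall _ (hcm hb g) hne' with h1 | h1
      · exact Or.inl (orderOf_of_mem_orbC h1)
      · exact Or.inr (orderOf_of_mem_orbC h1)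
    · intro a ha
      obtain ⟨g, rfl⟩ := htr hd₀ ha
      exact ⟨⟨_, hcm hy g, fun he => hxy (mul_left_cancel (mul_right_cancel he)),
          orderOf_mul_img g d₀ y⟩,
        ⟨_, hcm hz g, fun he => hxz (mul_left_cancel (mul_right_cancel he)),
          orderOf_mul_img g d₀ z⟩⟩
    · intro hne a ha b hb b' hb' hab hab' ho
      obtain ⟨g, hg⟩ := htr ha hd₀
      have hb1 : d₀ ≠ g * b * g⁻¹ := fun he => hab (mul_left_cancel (mul_right_cancel (hg.trans he)))
      have hb2 : d₀ ≠ g * b' * g⁻¹ := fun he =>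
        hab' (mul_left_cancel (mul_right_cancel (hg.trans he)))
      have ho' : orderOf (d₀ * (g * b * g⁻¹)) = orderOf (d₀ * (g * b' * g⁻¹)) := by
        rw [← hg, orderOf_mul_img, orderOf_mul_img, ho]
      have key : ∀ w, g * b * g⁻¹ ∈ orbC d₀ w → g * b' * g⁻¹ ∈ orbC d₀ w →
          ∃ k, Commute k a ∧ k * b * k⁻¹ = b' := by
        rintro w ⟨i, hi, hib⟩ ⟨j, hj, hjb⟩
        refine ⟨g⁻¹ * (j * i⁻¹) * g, ?_, ?_⟩
        · have h1 := (Commute.conj_iff g⁻¹).2 (hj.mul_left hi.inv_left)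
          rw [inv_inv] at h1
          rwa [show a = g⁻¹ * d₀ * g by rw [← hg]; group]
        · calc g⁻¹ * (j * i⁻¹) * g * b * (g⁻¹ * (j * i⁻¹) * g)⁻¹
              = g⁻¹ * (j * (i⁻¹ * (g * b * g⁻¹) * i) * j⁻¹) * g := by group
            _ = g⁻¹ * (j * w * j⁻¹) * g := by rw [← hib]; group
            _ = b' := by rw [hjb]; group
      rcases hall _ (hcm hb g) hb1 with h1 | h1 <;> rcases hall _ (hcm hb' g) hb2 with h2 | h2
      · exact key y h1 h2
      · exact absurd ((orderOf_of_mem_orbC h1).symm.trans (ho'.trans (orderOf_of_mem_orbC h2))) hne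
      · exact absurd ((orderOf_of_mem_orbC h2).symm.trans
          (ho'.symm.trans (orderOf_of_mem_orbC h1))) hne
      · exact key z h1 h2
  by_cases hcase : n₁ = 2 ∨ n₂ = 2
  · -- commuting pairs occur
    obtain ⟨n, hn2, hdich⟩ : ∃ n, n ≠ 2 ∧ ∀ a ∈ D, ∀ b ∈ D, Commute a b ∨ orderOf (a * b) = n := by
      have hsome : ∃ a ∈ D, ∃ b ∈ D, ¬ Commute a b := by
        by_contra hne
        push Not at hne
        exact false_of_comm hsol hgen (hinv d₀ hd₀) hne
      obtain ⟨a, ha, b, hb, hab⟩ := hsome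
      refine ⟨orderOf (a * b), fun h2 => hab (commute_of_orderOf_dvd_two (hinv a ha) (hinv b hb)
        (dvd_of_eq h2)), fun c hc e he => ?_⟩
      rcases eq_or_ne c e with rfl | hce
      · exact Or.inl (Commute.refl c)
      by_cases hcomm : Commute c e
      · exact Or.inl hcomm
      right
      have hne2 : ∀ {u v : G}, u ∈ D → v ∈ D → ¬ Commute u v → orderOf (u * v) ≠ 2 :=
        fun hu hv huv h2 => huv (commute_of_orderOf_dvd_two (hinv _ hu) (hinv _ hv) (dvd_of_eq h2))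
      have habne : a ≠ b := fun he => hab (he ▸ Commute.refl a)
      rcases hcase with h2 | h2 <;> rcases hn c hc e he hce with h3 | h3 <;>
        rcases hn a ha b hb habne with h4 | h4
      all_goals first
        | exact h3.trans h4.symm
        | exact absurd (h3.trans h2) (hne2 hc he hcomm)
        | exact absurd (h4.trans h2) (hne2 ha hb hab)
    obtain ⟨c, hc, c', hc', hcne, hcc⟩ : ∃ c ∈ D, ∃ c' ∈ D, c ≠ c' ∧ Commute c c' := by
      rcases hcase with h2 | h2
      · obtain ⟨b, hb, hne, ho⟩ := (hN d₀ hd₀).1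
        exact ⟨d₀, hd₀, b, hb, hne, commute_of_orderOf_dvd_two (hinv _ hd₀) (hinv _ hb)
          (dvd_of_eq (ho.trans h2))⟩
      · obtain ⟨b, hb, hne, ho⟩ := (hN d₀ hd₀).2
        exact ⟨d₀, hd₀, b, hb, hne, commute_of_orderOf_dvd_two (hinv _ hd₀) (hinv _ hb)
          (dvd_of_eq (ho.trans h2))⟩
    obtain ⟨a, ha, b, hb, hab⟩ : ∃ a ∈ D, ∃ b ∈ D, ¬ Commute a b := by
      by_contra hne
      push Not at hne
      exact false_of_comm hsol hgen (hinv d₀ hd₀) hne
    have hon : orderOf (a * b) = n := (hdich a ha b hb).resolve_left hab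
    have hpos : 0 < n := hon ▸ orderOf_pos _
    have hn1 : n ≠ 1 := fun h1 => hord1 ha hb (fun he => hab (he ▸ Commute.refl a)) (hon.trans h1)
    have hdiv : ∀ e : ℕ, e ∣ n → e = 1 ∨ e = 2 ∨ e = n := by
      intro e he
      obtain ⟨w, hw, hwe⟩ := exists_of_dvd hinv hcl ha hb (hon ▸ hpos) (hon ▸ he)
      rcases eq_or_ne a w with rfl | hne
      · left; rw [← hwe, Invol.mul_self_eq_one (hinv a ha), orderOf_one]
      rcases hdich a ha w hw with h1 | h1
      · right; left; rw [← hwe, orderOf_mul_eq_two (hinv a ha) (hinv w hw) h1 hne]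
      · exact Or.inr (Or.inr (hwe.symm.trans h1))
    rcases Nat.even_or_odd n with heven | hoddn
    · obtain ⟨m, hm⟩ := heven
      have hm2 : n = 4 := by
        rcases hdiv m ⟨2, by omega⟩ with h1 | h1 | h1 <;> omega
      exfalso
      have := Fact.mk Nat.prime_two
      have hpow : ∀ u ∈ D, ∀ v ∈ D, (u * v) ^ 4 = 1 := by
        intro u hu v hv
        rcases hdich u hu v hv with h1 | h1
        · rw [h1.mul_pow, show (4 : ℕ) = 2 * 2 from rfl, pow_mul, pow_mul, pow_two u, pow_two v,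
            Invol.mul_self_eq_one (hinv u hu), Invol.mul_self_eq_one (hinv v hv), one_pow, one_mul]
        · rw [← hm2, ← h1, pow_orderOf_eq_one]
      obtain ⟨N, hN', hN2, hdN⟩ := Invol.baerSuzuki (p := 2) (zpowers d₀)
        (IsPGroup.of_card (n := 1) (by rw [Nat.card_zpowers, hinv d₀ hd₀, pow_one])) fun g => by
        set e := g * d₀ * g⁻¹
        have heD : e ∈ D := hcm hd₀ g
        rw [MonoidHom.map_zpowers, show (MulAut.conj g).toMonoidHom d₀ = e from rfl]
        have hle : zpowers d₀ ⊔ zpowers e ≤ zpowers d₀ ⊔ zpowers (d₀ * e) := by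
          refine sup_le le_sup_left (zpowers_le.2 ?_)
          have h1 := mul_mem (mem_sup_left (mem_zpowers d₀) : d₀ ∈ zpowers d₀ ⊔ zpowers (d₀ * e))
            (mem_sup_right (mem_zpowers (d₀ * e)))
          rwa [Invol.mul_mul_cancel_self (hinv d₀ hd₀)] at h1
        refine IsPGroup.to_le ?_ hle
        refine Invol.isPGroup_sup_of_le_normalizer
          (IsPGroup.of_card (n := 1) (by rw [Nat.card_zpowers, hinv d₀ hd₀, pow_one])) ?_ ?_
        · obtain ⟨k, -, hk⟩ := (Nat.dvd_prime_pow Nat.prime_two).1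
            (orderOf_dvd_of_pow_eq_one (hpow d₀ hd₀ e heD) : orderOf (d₀ * e) ∣ 2 ^ 2)
          exact IsPGroup.of_card (n := k) (by rw [Nat.card_zpowers, hk])
        · refine zpowers_le.2 (Invol.mem_normalizer_of_conj_le ?_)
          rw [MonoidHom.map_zpowers, zpowers_le]
          show d₀ * (d₀ * e) * d₀⁻¹ ∈ _
          rw [conj_eq (hinv d₀ hd₀), conj_prod (hinv d₀ hd₀) (hinv e heD)]
          exact inv_mem (mem_zpowers _)
      refine false_of_solvable_closure hsol hgen (hinv d₀ hd₀) ?_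
      have hNs : Group.IsSolvable N := by
        have := hN2.isNilpotent
        infer_instance
      have hle : closure D ≤ N := (closure_le _).2 fun d hd => by
        obtain ⟨g, rfl⟩ := htr hd₀ hd
        exact hN'.conj_mem _ (hdN (mem_zpowers d₀)) g
      exact Group.isSolvable_of_isSolvable_injective (inclusion_injective hle)
    · have hp : n.Prime := Nat.prime_def.2 ⟨by omega, fun e he => by
        rcases hdiv e he with h1 | h1 | h1
        · exact Or.inl h1
        · subst h1; exact absurd (even_iff_two_dvd.2 he) (Nat.not_even_iff_odd.2 hoddn)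
        · exact Or.inr h1⟩
      by_cases h3 : n = 3
      · intro u hu v hv
        rcases hdich u hu v hv with h1 | h1
        · left
          rw [h1.mul_pow, pow_two, pow_two, Invol.mul_self_eq_one (hinv u hu),
            Invol.mul_self_eq_one (hinv v hv), one_mul]
        · right; rw [← h3, ← h1, pow_orderOf_eq_one]
      exfalso
      have h5 : 5 ≤ n := by
        rcases hoddn with ⟨j, hj⟩
        omega
      have := Fact.mk Nat.prime_two
      have hmem := mul_mem_pCore G D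
        (⟨hp, h5, hinv, ⟨d₀, hd₀, hD⟩, hgen, hdich⟩ : PClass D n) c hc c' hc' hcc
      have hbot : Cfsg.pCore 2 G = ⊥ := by
        refine hsol _ inferInstance ?_
        have := (Core.pCore_isPGroup (p := 2) (G := G)).isNilpotent
        infer_instance
      rw [hbot, mem_bot] at hmem
      exact hcne (eq_of_mul_eq_one (hinv c' hc') hmem)
  · -- no commuting pairs
    exfalso
    push Not at hcase
    have hnocomm : ∀ a ∈ D, ∀ b ∈ D, Commute a b → a = b := by
      intro a ha b hb hc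
      by_contra hne
      have h2 := orderOf_mul_eq_two (hinv a ha) (hinv b hb) hc hne
      rcases hn a ha b hb hne with h1 | h1
      · exact hcase.1 (h1.symm.trans h2)
      · exact hcase.2 (h1.symm.trans h2)
    have hiso : Cfsg.IsIsolatedInvolution d₀ :=
      ⟨hinv d₀ hd₀, fun g hg => (hnocomm _ hd₀ _ (hcm hd₀ g) hg).symm⟩
    set O := Cfsg.oddCore G with hO
    have hOn : O.Normal := by rw [hO]; exact inferInstanceAs (Cfsg.pPrimeCore 2 G).Normal
    have hOodd : Odd (Nat.card O) :=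
      Nat.coprime_two_right.1 (Core.coprime_card_pPrimeCore (p := 2) (G := G))
    have hd0O : d₀ ∉ O := fun h1 => by
      have h2 := orderOf_dvd_natCard (⟨d₀, h1⟩ : O)
      rw [orderOf_mk, hinv d₀ hd₀] at h2
      exact Nat.not_even_iff_odd.2 hOodd (even_iff_two_dvd.2 h2)
    have hcover : ∀ g : G, g ∈ O ∨ d₀ * g ∈ O := by
      intro g
      let H : Subgroup G := O ⊔ zpowers d₀
      have hDH : ∀ d ∈ D, d ∈ H := by
        intro d hd
        obtain ⟨k, rfl⟩ := htr hd₀ hd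
        have h1 : d₀ * k * d₀⁻¹ * k⁻¹ ∈ O := Invol.zstar hiso k
        have h3 : k * d₀ * k⁻¹ = d₀ * (d₀ * k * d₀⁻¹ * k⁻¹) := by
          simp only [Invol.inv_eq_self (hinv d₀ hd₀), mul_assoc,
            Invol.mul_mul_cancel_self (hinv d₀ hd₀)]
        rw [h3]
        exact mul_mem (mem_sup_right (mem_zpowers d₀)) (mem_sup_left h1)
      have hg : g ∈ H := by
        have : closure D ≤ H := (closure_le _).2 hDH
        exact this (hgen ▸ mem_top g)
      obtain ⟨o, ho, w, hw, rfl⟩ := mem_sup_of_normal_left.1 hg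
      obtain ⟨i, rfl⟩ := hw
      show o * d₀ ^ i ∈ O ∨ d₀ * (o * d₀ ^ i) ∈ O
      rcases Int.even_or_odd' i with ⟨j, rfl | rfl⟩
      · left
        rw [zpow_mul, zpow_ofNat, pow_two, Invol.mul_self_eq_one (hinv d₀ hd₀), one_zpow, mul_one]
        exact ho
      · right
        rw [zpow_add, zpow_mul, zpow_ofNat, pow_two, Invol.mul_self_eq_one (hinv d₀ hd₀), one_zpow,
          one_mul, zpow_one]
        have := hOn.conj_mem o ho d₀
        rwa [Invol.inv_eq_self (hinv d₀ hd₀), mul_assoc] at this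
    have hidx : O.index = 2 := by
      refine index_eq_two_iff'.2 ⟨d₀, fun g => ?_⟩
      rcases hcover g with h1 | h1
      · exact Or.inr ⟨h1, fun h2 => hd0O (by simpa using mul_mem h2 (inv_mem h1))⟩
      · refine Or.inl ⟨h1, fun h2 => hd0O ?_⟩
        simpa using mul_mem h1 (inv_mem h2)
    have hK : OddTwo O := ⟨hOn, hidx, hOodd⟩
    have hDinv : invols G = D := by
      ext d
      constructor
      · intro hd
        obtain ⟨g, -, hg⟩ := hK.exists_conj (hinv d₀ hd₀ : d₀ ∈ invols G) hd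
        exact hg ▸ hcm hd₀ g
      · exact hinv d
    have hodd : ∀ a ∈ D, ∀ b ∈ D, Odd (orderOf (a * b)) := fun a ha b hb =>
      hK.odd_mul (hDinv ▸ ha : a ∈ invols G) (hDinv ▸ hb : b ∈ invols G)
    have hdivs : ∀ e : ℕ, e ∣ n₁ ∨ e ∣ n₂ → e = 1 ∨ e = n₁ ∨ e = n₂ := by
      intro e he
      have key : ∀ b ∈ D, d₀ ≠ b → e ∣ orderOf (d₀ * b) → e = 1 ∨ e = n₁ ∨ e = n₂ := by
        intro b hb _ hd
        obtain ⟨w, hw, hwe⟩ := exists_of_dvd hinv hcl hd₀ hb (orderOf_pos _) hd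
        rcases eq_or_ne d₀ w with rfl | hne
        · left; rw [← hwe, Invol.mul_self_eq_one (hinv d₀ hd₀), orderOf_one]
        · rcases hn d₀ hd₀ w hw hne with h1 | h1
          · exact Or.inr (Or.inl (hwe.symm.trans h1))
          · exact Or.inr (Or.inr (hwe.symm.trans h1))
      obtain ⟨⟨b, hb, hbne, hbo⟩, ⟨b', hb', hbne', hbo'⟩⟩ := hN d₀ hd₀
      rcases he with he | he
      · exact key b hb hbne (hbo ▸ he)
      · exact key b' hb' hbne' (hbo' ▸ he)
    have h1ne : n₁ ≠ 1 ∧ n₂ ≠ 1 ∧ 0 < n₁ ∧ 0 < n₂ ∧ Odd n₁ ∧ Odd n₂ := by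
      obtain ⟨⟨b, hb, hbne, hbo⟩, ⟨b', hb', hbne', hbo'⟩⟩ := hN d₀ hd₀
      exact ⟨hbo ▸ hord1 hd₀ hb hbne, hbo' ▸ hord1 hd₀ hb' hbne', hbo ▸ orderOf_pos _,
        hbo' ▸ orderOf_pos _, hbo ▸ hodd _ hd₀ _ hb, hbo' ▸ hodd _ hd₀ _ hb'⟩
    obtain ⟨hn11, hn21, hn1p, hn2p, hn1o, hn2o⟩ := h1ne
    set p := n₁.minFac with hp
    have hpp : p.Prime := Nat.minFac_prime hn11
    have hpd : p ∣ n₁ := Nat.minFac_dvd n₁
    by_cases hone : ∀ q : ℕ, q.Prime → q ∣ n₁ ∨ q ∣ n₂ → q = p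
    · -- a single prime
      have hp2 : p ≠ 2 := fun h2 =>
        Nat.not_even_iff_odd.2 hn1o (even_iff_two_dvd.2 (h2 ▸ hpd))
      have hpow : ∀ m : ℕ, 0 < m → (∀ q : ℕ, q.Prime → q ∣ m → q = p) → ∃ k, m = p ^ k := fun m hm hq =>
        ⟨_, Nat.eq_prime_pow_of_unique_prime_dvd hm.ne' fun {d} hd hdm => hq d hd hdm⟩
      obtain ⟨k₁, hk₁⟩ := hpow n₁ hn1p fun q hq hd => hone q hq (Or.inl hd)
      obtain ⟨k₂, hk₂⟩ := hpow n₂ hn2p fun q hq hd => hone q hq (Or.inr hd)
      have hnil := S1618.result p hpp hp2 hinv ⟨d₀, hd₀, hD⟩ hgen fun a ha b hb hne => by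
        rcases hn a ha b hb hne with h1 | h1
        · exact ⟨k₁, h1.trans hk₁⟩
        · exact ⟨k₂, h1.trans hk₂⟩
      have hcb : commutator G = ⊥ := hsol _ inferInstance inferInstance
      refine false_of_comm hsol hgen (hinv d₀ hd₀) fun a _ b _ => ?_
      rw [← commutatorElement_eq_one_iff_commute, ← mem_bot, ← hcb]
      exact commutator_mem_commutator (mem_top a) (mem_top b)
    · push Not at hone
      obtain ⟨q, hq, hqd, hqp⟩ := hone
      have e1 := hdivs p (Or.inl hpd)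
      have e2 := hdivs q hqd
      have hpr : n₁.Prime ∧ n₂.Prime ∧ n₁ ≠ n₂ := by
        have := hpp.ne_one
        have := hq.ne_one
        rcases e1 with h1 | h1 | h1 <;> rcases e2 with h2 | h2 | h2
        all_goals first
          | omega
          | exact ⟨h1 ▸ hpp, h2 ▸ hq, fun he => hqp (by rw [h1, h2, he])⟩
          | exact ⟨h2 ▸ hq, h1 ▸ hpp, fun he => hqp (by rw [h1, h2, he])⟩
      obtain ⟨hp1, hp2, hne⟩ := hpr
      have hH : Hyp O n₁ n₂ := ⟨hK, hp1, hp2, hne, hcase.1, hcase.2,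
        fun a ha b hb => hn a (hDinv ▸ ha) b (hDinv ▸ hb),
        fun a ha b hb b' hb' => htrans hne a (hDinv ▸ ha) b (hDinv ▸ hb) b' (hDinv ▸ hb')⟩
      have hs := solvable_of_hyp G O n₁ n₂ hH
      rw [hDinv] at hs
      exact false_of_solvable_closure hsol hgen (hinv d₀ hd₀) hs

end Cfsg.Agent.RankThreeInvol
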